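import Groth.Agent.GenusOneTwist.Chart
import Groth.Agent.S3554
import Groth.Agent.FpqcDescent.IdealGlue

/-!
# Base change and diagonal change of coordinates of a hypersurface
-/

set_option autoImplicit false
set_option linter.style.haveILetI false
set_option linter.unusedSectionVars false
set_option backward.isDefEq.respectTransparency false
set_option maxHeartbeats 1000000

universe u

open CategoryTheory CategoryTheory.Limits AlgebraicGeometry TopologicalSpace MvPolynomial
open scoped HomogeneousIdeal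
open Groth.Agent.QC (res resO resO_resO resO_self)

noncomputable section

namespace Groth.Agent.GenusOneTwist

variable {K L : Type u} [Field K] [Field L] (φ : K →+* L) {n d : ℕ} (c : Fin (n + 1) → L)

/-- Extension of scalars followed by `X_j ↦ c_j X_j`. -/
def scaleHom : MvPolynomial (Fin (n + 1)) K →+* MvPolynomial (Fin (n + 1)) L :=
  MvPolynomial.eval₂Hom (MvPolynomial.C.comp φ) fun j => C (c j) * X j

theorem scaleHom_C (a : K) : scaleHom φ c (C a) = C (φ a) := by simp [scaleHom]

theorem scaleHom_X (j : Fin (n + 1)) : scaleHom φ c (X j) = C (c j) * X j := by simp [scaleHom]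

theorem scaleHom_mem {i : ℕ} {p : MvPolynomial (Fin (n + 1)) K} (hp : p ∈ CohB1.polyGrading n K i) :
    scaleHom φ c p ∈ CohB1.polyGrading n L i := by
  have := (MvPolynomial.mem_homogeneousSubmodule i p).1 hp
  refine (MvPolynomial.mem_homogeneousSubmodule i _).2 ?_
  simpa [scaleHom] using this.eval₂ (MvPolynomial.C.comp φ) (fun j => C (c j) * X j) (n := 1)
    (fun a => isHomogeneous_C _ _) fun j => (isHomogeneous_X L j).C_mul _

/-- The graded homomorphism. -/
def scaleGr : CohB1.polyGrading n K →+*ᵍ CohB1.polyGrading n L where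
  toRingHom := scaleHom φ c
  map_mem := scaleHom_mem φ c

/-- The form with extended and scaled coefficients. -/
def scaleForm (G : LefPen.Form n K d) : LefPen.Form n L d := ⟨scaleHom φ c G.1, scaleHom_mem φ c G.2⟩

variable (hc : ∀ j, c j ≠ 0)
include hc

theorem irrelevant_le :
    HomogeneousIdeal.irrelevant (CohB1.polyGrading n L) ≤
      (HomogeneousIdeal.irrelevant (CohB1.polyGrading n K)).map (scaleGr φ c) := by
  show (HomogeneousIdeal.irrelevant (CohB1.polyGrading n L)).toIdeal ≤ _
  refine (HomogeneousIdeal.toIdeal_irrelevant_le _).2 fun i hi x hx => ?_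
  have h1 : x ∈ Ideal.span (MvPolynomial.X '' (Set.univ : Set (Fin (n + 1)))) := by
    rw [MvPolynomial.mem_ideal_span_X_image]
    intro m hm
    have hdeg := (MvPolynomial.mem_homogeneousSubmodule i x).1 hx (MvPolynomial.mem_support_iff.1 hm)
    by_contra hn
    push Not at hn
    have : m = 0 := Finsupp.ext fun j => hn j trivial
    subst this
    simp at hdeg
    omega
  refine Ideal.span_le.2 ?_ h1
  rintro _ ⟨j, -, rfl⟩
  have h2 : scaleHom φ c (X j) ∈ ((HomogeneousIdeal.irrelevant (CohB1.polyGrading n K)).map (scaleGr φ c)).toIdeal :=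
    Ideal.mem_map_of_mem _ (HomogeneousIdeal.mem_irrelevant_of_mem _ zero_lt_one (PicPn.X_mem j))
  have h3 := Ideal.mul_mem_left _ (C (c j)⁻¹) h2
  rwa [scaleHom_X, ← mul_assoc, ← map_mul, inv_mul_cancel₀ (hc j), map_one, one_mul] at h3

/-- The map of projective spaces. -/
def scaleProj : CohB1.ProjSpace n L ⟶ CohB1.ProjSpace n K :=
  Proj.map (scaleGr φ c) (irrelevant_le φ c hc)

theorem isPullback_scaleProj :
    IsPullback (scaleProj φ c hc) (CohB1.ProjSpace.toSpec n L) (CohB1.ProjSpace.toSpec n K)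
      (Spec.map (CommRingCat.ofHom φ)) := by
  letI := φ.toAlgebra
  letI a0 : Algebra (MvPolynomial (Fin (n + 1)) K) (MvPolynomial (Fin (n + 1)) L) :=
    MvPolynomial.algebraMvPolynomial
  have hbase : Algebra.IsPushout K L (MvPolynomial (Fin (n + 1)) K) (MvPolynomial (Fin (n + 1)) L) :=
    inferInstance
  let e : MvPolynomial (Fin (n + 1)) L ≃ₐ[L] MvPolynomial (Fin (n + 1)) L :=
    AlgEquiv.ofAlgHom (aeval fun j => C (c j) * X j) (aeval fun j => C (c j)⁻¹ * X j)
      (MvPolynomial.algHom_ext fun j => by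
        rw [AlgHom.comp_apply, AlgHom.id_apply, aeval_X, map_mul, aeval_X, aeval_C, MvPolynomial.algebraMap_eq, ← mul_assoc,
          ← map_mul, inv_mul_cancel₀ (hc j), map_one, one_mul])
      (MvPolynomial.algHom_ext fun j => by
        rw [AlgHom.comp_apply, AlgHom.id_apply, aeval_X, map_mul, aeval_X, aeval_C, MvPolynomial.algebraMap_eq, ← mul_assoc,
          ← map_mul, mul_inv_cancel₀ (hc j), map_one, one_mul])
  have hcomp : ∀ p, e (algebraMap (MvPolynomial (Fin (n + 1)) K) (MvPolynomial (Fin (n + 1)) L) p) =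
      scaleHom φ c p := by
    intro p
    induction p using MvPolynomial.induction_on with
    | C a => simp [e, scaleHom, RingHom.algebraMap_toAlgebra, MvPolynomial.algebraMap_apply]
    | add p q hp hq => simp only [map_add, hp, hq]
    | mul_X p j hp =>
      simp only [map_mul, hp]
      simp [e, scaleHom, RingHom.algebraMap_toAlgebra]
  let f0 := (IsScalarTower.toAlgHom K (MvPolynomial (Fin (n + 1)) K) (MvPolynomial (Fin (n + 1)) L)).toLinearMap
  have hf0 : IsBaseChange L f0 := hbase.out
  letI : Algebra (MvPolynomial (Fin (n + 1)) K) (MvPolynomial (Fin (n + 1)) L) := (scaleHom φ c).toAlgebra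
  haveI : IsScalarTower K (MvPolynomial (Fin (n + 1)) K) (MvPolynomial (Fin (n + 1)) L) :=
    IsScalarTower.of_algebraMap_eq fun a => (scaleHom_C φ c a).symm
  haveI : Algebra.IsPushout K L (MvPolynomial (Fin (n + 1)) K) (MvPolynomial (Fin (n + 1)) L) :=
    ⟨IsBaseChange.of_equiv (hf0.equiv.trans e.toLinearEquiv) fun p => by
      show e (hf0.equiv ((1 : L) ⊗ₜ p)) = scaleHom φ c p
      rw [hf0.equiv_tmul, one_smul]
      exact hcomp p⟩
  exact Groth.Agent.S3554.result (CohB1.polyGrading n K) (CohB1.polyGrading n L) (scaleGr φ c) (fun _ => rfl)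
    (irrelevant_le φ c hc)

theorem appLE_deh {g : MvPolynomial (Fin (n + 1)) K} (hg : g ∈ CohB1.polyGrading n K 1) {i : ℕ}
    {a : MvPolynomial (Fin (n + 1)) K} (ha : a ∈ CohB1.polyGrading n K i) :
    ((Proj.map (scaleGr φ c) (irrelevant_le φ c hc)).appLE (Proj.basicOpen (CohB1.polyGrading n K) g)
      (Proj.basicOpen (CohB1.polyGrading n L) (scaleHom φ c g)) le_rfl).hom
        (GrT.deh (CohB1.polyGrading n K) hg a) =
      GrT.deh (CohB1.polyGrading n L) (scaleHom_mem φ c hg) (scaleHom φ c a) := by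
  rw [GrT.deh_of_mem _ hg ha, GrT.deh_of_mem _ (scaleHom_mem φ c hg) (scaleHom_mem φ c ha)]
  have h := ConcreteCategory.congr_hom
    (Proj.awayToSection_comp_appLE (scaleGr φ c) (irrelevant_le φ c hc) hg)
    (HomogeneousLocalization.Away.mk (CohB1.polyGrading n K) hg i a (GrT.mem_smul_one _ ha))
  refine h.trans ?_
  show (Proj.awayToSection (CohB1.polyGrading n L) _).hom (HomogeneousLocalization.Away.map _ _ _) = _
  rw [HomogeneousLocalization.Away.map_mk]
  rfl

theorem comap_hypIdeal (G : LefPen.Form n K d) :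
    (LefPen.hypIdeal G).comap (scaleProj φ c hc) = LefPen.hypIdeal (scaleForm φ c G) := by
  let g : Fin (n + 1) → MvPolynomial (Fin (n + 1)) L := fun l => scaleHom φ c (X l)
  have hg : ∀ l, g l ∈ CohB1.polyGrading n L 1 := fun l => scaleHom_mem φ c (PicPn.X_mem l)
  let W : Fin (n + 1) → (CohB1.ProjSpace n L).affineOpens := fun l =>
    ⟨Proj.basicOpen (CohB1.polyGrading n L) (g l), ProjLib.isAffineOpen_basicOpen _ (hg l) one_pos⟩
  have hW : ∀ l, Proj.basicOpen (CohB1.polyGrading n L) (g l) = PicPn.ch (k := L) l := fun l => by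
    refine TopologicalSpace.Opens.ext (Set.ext fun y => ?_)
    show scaleHom φ c (X l) ∉ y.asHomogeneousIdeal ↔ X l ∉ y.asHomogeneousIdeal
    rw [scaleHom_X]
    refine not_congr ⟨fun h => ?_, fun h => y.asHomogeneousIdeal.toIdeal.mul_mem_left _ h⟩
    have := y.asHomogeneousIdeal.toIdeal.mul_mem_left (C (c l)⁻¹) h
    rwa [← mul_assoc, ← map_mul, inv_mul_cancel₀ (hc l), map_one, one_mul] at this
  refine Scheme.IdealSheafData.ext_of_iSup_eq_top W
    (top_le_iff.1 fun y _ => Opens.mem_iSup.2 ((PicPn.exists_mem_ch y).imp fun l hl => (hW l).ge hl)) fun l => ?_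
  rw [FpqcDescent.ideal_comap_appLE (LefPen.hypIdeal G) (scaleProj φ c hc)
      ⟨PicPn.ch (k := K) l, PicPn.isAffineOpen_ch l⟩ (W l) le_rfl, hypIdeal_chart, Ideal.map_span,
    Set.image_singleton]
  erw [appLE_deh φ c hc (PicPn.X_mem l) G.2]
  refine Eq.trans ?_ (Scheme.IdealSheafData.map_ideal (LefPen.hypIdeal (scaleForm φ c G)) (U := W l)
    (V := ⟨PicPn.ch (k := L) l, PicPn.isAffineOpen_ch l⟩) (hW l).le)
  rw [hypIdeal_chart, Ideal.map_span, Set.image_singleton]
  have hcross := GrT.deh_cross (CohB1.polyGrading n L) (hg l) (PicPn.X_mem l) (scaleForm φ c G).2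
    (V := (W l).1) le_rfl (hW l).le
  rw [resO_self] at hcross
  erw [hcross]
  exact Ideal.span_singleton_mul_left_unit
    (GrT.isUnit_deh_pow (CohB1.polyGrading n L) (hg l) (PicPn.X_mem l) d le_rfl (hW l).le) _

/-- The hypersurface of the scaled form is the base change. -/
theorem exists_isPullback (G : LefPen.Form n K d) :
    ∃ q : Hyp (scaleForm φ c G) ⟶ Hyp G,
      IsPullback q (str (scaleForm φ c G)) (str G) (Spec.map (CommRingCat.ofHom φ)) := by
  show ∃ q : (LefPen.hypIdeal (scaleForm φ c G)).subscheme ⟶ _, IsPullback q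
    ((LefPen.hypIdeal (scaleForm φ c G)).subschemeι ≫ CohB1.ProjSpace.toSpec n L) _ _
  rw [← comap_hypIdeal φ c hc G]
  let I := LefPen.hypIdeal G
  have H0 : IsPullback (I.comap (scaleProj φ c hc)).subschemeι
      ((I.comapIso (scaleProj φ c hc)).hom ≫ pullback.snd _ _) (scaleProj φ c hc) I.subschemeι := by
    refine IsPullback.of_iso_pullback ⟨?_⟩ (I.comapIso (scaleProj φ c hc))
      (Scheme.IdealSheafData.comapIso_hom_fst _ _) rfl
    rw [← Scheme.IdealSheafData.comapIso_hom_fst I (scaleProj φ c hc), Category.assoc, Category.assoc,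
      pullback.condition]
  exact ⟨_, H0.flip.paste_vert (isPullback_scaleProj φ c hc)⟩

end Groth.Agent.GenusOneTwist
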