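import Groth.Agent.GenusOneTwist.Smooth
import Groth.Agent.PlaneCurve.Hyp
import Groth.Agent.ProjMor.Base
import Groth.Agent.PicPn.Chart
import Groth.Agent.ProjMor.ProjSpaceBase
import Groth.Agent.S5792
import Mathlib.AlgebraicGeometry.Morphisms.Smooth
import Mathlib.RingTheory.KrullDimension.NonZeroDivisors
import Mathlib.RingTheory.KrullDimension.Polynomial

/-!
# Charts of a plane hypersurface
-/

set_option autoImplicit false
set_option linter.style.haveILetI false
set_option backward.isDefEq.respectTransparency false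
set_option maxHeartbeats 1000000

universe u

open CategoryTheory CategoryTheory.Limits AlgebraicGeometry TopologicalSpace MvPolynomial
open Groth.Agent.QC (res resO resO_resO resO_self)

noncomputable section

namespace Groth.Agent.GenusOneTwist

variable {K : Type u} [Field K] {n d : ℕ}

/-- The ideal of a hypersurface on a chart. -/
theorem hypIdeal_chart (G : LefPen.Form n K d) (l : Fin (n + 1)) :
    (LefPen.hypIdeal G).ideal ⟨PicPn.ch (k := K) l, PicPn.isAffineOpen_ch l⟩ =
      Ideal.span {GrT.deh (CohB1.polyGrading n K) (PicPn.X_mem l) G.1} := by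
  rw [PlaneCurve.hypIdeal_eq]
  obtain ⟨e, he, hc⟩ := PlaneCurve.exists_coeff G l
  exact ZeroSch.ideal_zeroScheme_eq_span (PlaneCurve.sigma G)
    (GrT.isInvertible_twist_of_gens (PlaneCurve.hasFracGens _)) _ he hc

/-- The hypersurface. -/
abbrev Hyp (G : LefPen.Form n K d) : Scheme.{u} := (LefPen.hypIdeal G).subscheme

/-- Its structure morphism. -/
abbrev str (G : LefPen.Form n K d) : Hyp G ⟶ Spec (CommRingCat.of K) :=
  (LefPen.hypIdeal G).subschemeι ≫ CohB1.ProjSpace.toSpec n K

/-- The chart of the hypersurface. -/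
abbrev hch (G : LefPen.Form n K d) (l : Fin (n + 1)) : (Hyp G).Opens :=
  (LefPen.hypIdeal G).subschemeι ⁻¹ᵁ PicPn.ch (k := K) l

theorem isAffineOpen_hch (G : LefPen.Form n K d) (l : Fin (n + 1)) : IsAffineOpen (hch G l) :=
  (PicPn.isAffineOpen_ch l).preimage _

theorem exists_mem_hch (G : LefPen.Form n K d) (x : Hyp G) : ∃ l, x ∈ hch G l :=
  PicPn.exists_mem_ch ((LefPen.hypIdeal G).subschemeι x)

/-- Setting the coordinate `l` to one. -/
def dehPoly (l : Fin (n + 1)) : MvPolynomial (Fin (n + 1)) K →ₐ[K] MvPolynomial {j : Fin (n + 1) // j ≠ l} K :=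
  MvPolynomial.aeval fun j => if h : j = l then 1 else X ⟨j, h⟩

theorem dehPoly_self (l : Fin (n + 1)) : dehPoly (K := K) l (X l) = 1 := by simp [dehPoly]

theorem dehPoly_X (l : Fin (n + 1)) (j : {j : Fin (n + 1) // j ≠ l}) : dehPoly (K := K) l (X j.1) = X j := by
  simp [dehPoly, j.2]

/-- The ring of the chart of the hypersurface. -/
theorem exists_chart_equiv (G : LefPen.Form n K d) (l : Fin (n + 1)) :
    ∃ e : (MvPolynomial {j : Fin (n + 1) // j ≠ l} K ⧸ Ideal.span {dehPoly l G.1}) ≃+* Γ(Hyp G, hch G l),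
      (∀ c : K, e (algebraMap K _ c) =
        ((str G).appLE ⊤ (hch G l) le_top).hom ((Scheme.ΓSpecIso (CommRingCat.of K)).inv c)) ∧
      (G ≠ 0 → dehPoly l G.1 ≠ 0) := by
  obtain ⟨e, he, hC⟩ := PicPn.exists_chart (k := K) l
  have hdeh : ∀ p, e (GrT.deh (CohB1.polyGrading n K) (PicPn.X_mem l) p) = dehPoly l p := by
    intro p
    have : e.toRingHom.comp (GrT.deh (CohB1.polyGrading n K) (PicPn.X_mem l)) = (dehPoly (K := K) l).toRingHom := by
      refine MvPolynomial.ringHom_ext (fun c => (hC c).trans (by simp [dehPoly])) fun j => ?_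
      by_cases hj : j = l
      · subst hj
        show e (GrT.deh _ _ (X j)) = dehPoly j (X j)
        rw [GrT.deh_self, map_one, dehPoly_self]
      · exact (he j hj).trans (dehPoly_X l ⟨j, hj⟩).symm
    exact DFunLike.congr_fun this p
  let ι := (LefPen.hypIdeal G).subschemeι
  let χ : MvPolynomial {j : Fin (n + 1) // j ≠ l} K →+* Γ(Hyp G, hch G l) :=
    (ι.app (PicPn.ch (k := K) l)).hom.comp e.symm.toRingHom
  have hχ : Function.Surjective χ :=
    ((LefPen.hypIdeal G).subschemeι_app_surjective ⟨_, PicPn.isAffineOpen_ch l⟩).comp e.symm.surjective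
  have hker : Ideal.span {dehPoly l G.1} = RingHom.ker χ := by
    ext p
    have hk := SetLike.ext_iff.1 ((LefPen.hypIdeal G).ker_subschemeι_app ⟨_, PicPn.isAffineOpen_ch l⟩) (e.symm p)
    rw [hypIdeal_chart] at hk
    refine Iff.trans ?_ hk.symm
    rw [← hdeh]
    refine Ideal.mem_span_singleton.trans (Iff.trans ?_ Ideal.mem_span_singleton.symm)
    exact ⟨fun h => by simpa using map_dvd e.symm h, fun h => (congrArg (_ ∣ ·) (e.apply_symm_apply p)).mp (map_dvd e h)⟩
  refine ⟨(Ideal.quotEquivOfEq hker).trans (RingHom.quotientKerEquivOfSurjective hχ), fun c => ?_, fun hG h0 => ?_⟩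
  · show χ (C c) = _
    have h1 : e.symm (C c) = GrT.deh (CohB1.polyGrading n K) (PicPn.X_mem l) (algebraMap K _ c) :=
      e.symm_apply_eq.2 (hC c).symm
    show (ι.app (PicPn.ch (k := K) l)).hom (e.symm (C c)) = _
    rw [h1, Scheme.Hom.app_eq_appLE]
    refine (ProjMor.ev_deh_algebraMap _ ι (q := str G) rfl (PicPn.X_mem l) le_rfl c).trans ?_
    show (Hyp G).presheaf.map _ (((str G).appTop).hom _) = _
    rw [Scheme.Hom.appTop, Scheme.Hom.app_eq_appLE, ← ConcreteCategory.comp_apply, Scheme.Hom.appLE_map]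
  · rw [← hdeh, map_eq_zero_iff e e.injective] at h0
    exact PlaneCurve.deh_ne_zero G hG l h0

theorem isSmooth_of_chart (G : LefPen.Form n K d)
    (h : ∀ l, Algebra.Smooth K (MvPolynomial {j : Fin (n + 1) // j ≠ l} K ⧸ Ideal.span {dehPoly l G.1})) :
    Smooth (str G) := by
  refine HasRingHomProperty.of_iSup_eq_top (P := @Smooth)
    (fun l : Fin (n + 1) => ⟨hch G l, isAffineOpen_hch G l⟩)
    (top_le_iff.1 fun x _ => Opens.mem_iSup.2 (exists_mem_hch G x)) fun l => ?_
  obtain ⟨e, he, -⟩ := exists_chart_equiv G l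
  have hs : RingHom.Smooth (algebraMap K (MvPolynomial {j : Fin (n + 1) // j ≠ l} K ⧸ Ideal.span {dehPoly l G.1})) :=
    RingHom.smooth_algebraMap.2 (h l)
  have h2 : RingHom.Smooth (((str G).appLE ⊤ (hch G l) le_top).hom.comp
      (Scheme.ΓSpecIso (CommRingCat.of K)).inv.hom) := by
    rw [show ((str G).appLE ⊤ (hch G l) le_top).hom.comp (Scheme.ΓSpecIso (CommRingCat.of K)).inv.hom =
      e.toRingHom.comp (algebraMap K _) from RingHom.ext fun c => (he c).symm]
    exact RingHom.Smooth.respectsIso.1 _ e hs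
  rw [← CommRingCat.hom_comp] at h2
  exact (RingHom.Smooth.respectsIso.cancel_left_isIso _ _).1 h2

theorem topologicalKrullDim_le_one (G : LefPen.Form 2 K d) (hG : G ≠ 0) : topologicalKrullDim (Hyp G) ≤ 1 := by
  rw [Groth.Agent.S5792.result]
  refine iSup_le fun x => ?_
  obtain ⟨l, hx⟩ := exists_mem_hch G x
  refine le_trans (iInf_le _ ⟨hch G l, hx⟩) ?_
  show topologicalKrullDim ↥(hch G l) ≤ 1
  refine le_of_eq_of_le (IsHomeomorph.topologicalKrullDim_eq _
    (isAffineOpen_hch G l).isoSpec.hom.homeomorph.isHomeomorph) ?_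
  refine le_of_eq_of_le (PrimeSpectrum.topologicalKrullDim_eq_ringKrullDim Γ(Hyp G, hch G l)) ?_
  obtain ⟨e, -, hne⟩ := exists_chart_equiv G l
  rw [← ringKrullDim_eq_of_ringEquiv e]
  have h1 := ringKrullDim_quotient_succ_le_of_nonZeroDivisor
    (mem_nonZeroDivisors_of_ne_zero (hne hG))
  rw [MvPolynomial.ringKrullDim_of_isNoetherianRing, ringKrullDim_eq_zero_of_field] at h1
  have h2 : Nat.card {j : Fin (2 + 1) // j ≠ l} = 2 := by
    rw [Nat.card_eq_fintype_card, Fintype.card_subtype_compl, Fintype.card_subtype_eq]; rfl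
  rw [h2] at h1
  revert h1
  generalize ringKrullDim (MvPolynomial {j : Fin (2 + 1) // j ≠ l} K ⧸ Ideal.span {dehPoly l G.1}) = D
  intro h1
  cases D with
  | bot => exact bot_le
  | coe D =>
    cases D with
    | top => exact absurd h1 (by rw [show ((⊤ : ℕ∞) : WithBot ℕ∞) + 1 = ((⊤ : ℕ∞) : WithBot ℕ∞) from rfl, zero_add]; exact not_le.2 (WithBot.coe_lt_coe.2 (ENat.coe_lt_top 2)))
    | coe D =>
      norm_cast at h1 ⊢
      have : D + 1 ≤ 2 := by exact_mod_cast h1
      exact_mod_cast (show D ≤ 1 by omega)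

end Groth.Agent.GenusOneTwist
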