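import Groth.Agent.GenusOneTwist.BaseChange
import Groth.Agent.S7840
import Groth.Agent.S0223
import Groth.Agent.CurveRR.Easy
import Groth.Prelude.Def_ModFun

/-!
# Twisted diagonal cubics are curves of genus one
-/

set_option autoImplicit false
set_option linter.style.haveILetI false
set_option backward.isDefEq.respectTransparency false
set_option maxHeartbeats 1000000

universe u

open CategoryTheory CategoryTheory.Limits AlgebraicGeometry TopologicalSpace MvPolynomial

noncomputable section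

namespace Groth.Agent.GenusOneTwist

variable {K : Type u} [Field K]

/-- The twisted diagonal cubic as a form. -/
def cf (a : Fin 3 → K) (e : K) : LefPen.Form 2 K 3 :=
  ⟨cubic a e, (MvPolynomial.mem_homogeneousSubmodule 3 _).2 (isHomogeneous_cubic a e)⟩

theorem scaleForm_cf {L : Type u} [Field L] (φ : K →+* L) (c : Fin 3 → L) (a : Fin 3 → K) (e : K) :
    scaleForm (n := 2) φ c (cf a e) = cf (fun i => φ (a i) * c i ^ 3) (φ e * (c 0 * c 1 * c 2)) := by
  refine Subtype.ext ?_
  show scaleHom (n := 2) φ c (cubic a e) = cubic _ _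
  simp only [cubic, map_add, map_sum, map_mul, map_pow, scaleHom_C, scaleHom_X, Fin.sum_univ_three]
  ring

theorem cf_ne_zero {a : Fin 3 → K} {e : K} (h : Good a e) : cf a e ≠ 0 := fun h0 => by
  have h1 := congrArg (fun F : LefPen.Form 2 K 3 => MvPolynomial.eval (Pi.single (0 : Fin 3) (1 : K)) F.1) h0
  have h2 : a 0 = 0 := by simpa [cf, cubic, Fin.sum_univ_three, Pi.single_apply] using h1
  exact h.1 0 h2

theorem smooth_str {a : Fin 3 → K} {e : K} (h : Good a e) : Smooth (str (cf a e)) :=
  isSmooth_of_chart _ fun l => smooth_chart h l (dehPoly l) (dehPoly_self l) (dehPoly_X l)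

theorem isProper_str (G : LefPen.Form 2 K 3) : IsProper (str G) := by
  haveI := ProjMor.isProper_toSpec (n := 2) (R := K)
  exact inferInstanceAs (IsProper ((LefPen.hypIdeal G).subschemeι ≫ CohB1.ProjSpace.toSpec 2 K))

theorem connectedSpace_hyp {a : Fin 3 → K} {e : K} (h : Good a e) : ConnectedSpace (Hyp (cf a e)) := by
  letI : (Hyp (cf a e)).Over (Spec (CommRingCat.of K)) := ⟨str (cf a e)⟩
  exact (Groth.Agent.S7840.result K 3 (by norm_num) (cf a e) (cf_ne_zero h) rfl).2.1

/-- Over an algebraically closed field. -/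
theorem curve_algClosed [IsAlgClosed K] {a : Fin 3 → K} {e : K} (h : Good a e) :
    IsIntegral (Hyp (cf a e)) ∧ topologicalKrullDim (Hyp (cf a e)) = 1 ∧
      (letI : (Hyp (cf a e)).Over (Spec (CommRingCat.of K)) := ⟨str (cf a e)⟩
       Curv2.genus K (Hyp (cf a e)) = 1) := by
  letI : (Hyp (cf a e)).Over (Spec (CommRingCat.of K)) := ⟨str (cf a e)⟩
  haveI : IsProper (Hyp (cf a e) ↘ Spec (CommRingCat.of K)) := isProper_str _
  haveI : Smooth (Hyp (cf a e) ↘ Spec (CommRingCat.of K)) := smooth_str h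
  haveI := connectedSpace_hyp h
  have hi : IsIntegral (Hyp (cf a e)) := CurveRR.Easy.isIntegral_of_smooth (k := K)
  have hg : Curv2.genus K (Hyp (cf a e)) = 1 :=
    ((Groth.Agent.S7840.result K 3 (by norm_num) (cf a e) (cf_ne_zero h) rfl).2.2).trans (by norm_num)
  refine ⟨hi, le_antisymm (topologicalKrullDim_le_one _ (cf_ne_zero h)) (not_lt.1 fun hlt => ?_), hg⟩
  have h0 : topologicalKrullDim (Hyp (cf a e)) ≤ ((0 : ℕ) : WithBot ℕ∞) := by
    revert hlt
    generalize topologicalKrullDim (Hyp (cf a e)) = D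
    intro hlt
    cases D with
    | bot => exact bot_le
    | coe D =>
      have : D < 1 := by exact_mod_cast hlt
      exact_mod_cast (ENat.lt_one_iff_eq_zero.1 this).le
  haveI := CurveRR.isNoetherian_of_proper K (Hyp (cf a e))
  haveI : Subsingleton (Coh.HH (Hyp (cf a e)) (Coh.structureModule (Hyp (cf a e))) 1) :=
    Groth.Agent.S0458.result (X := (Hyp (cf a e)).toPresheafedSpace.carrier) 0 h0 (Coh.toAb _) 1 (by omega)
  rw [Curv2.genus, Module.finrank_zero_of_subsingleton] at hg
  exact zero_ne_one hg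

theorem geometricallyIrreducible_str {a : Fin 3 → K} {e : K} (h : Good a e) :
    GeometricallyIrreducible (str (cf a e)) := by
  refine ⟨fun L _ y Y fst snd H => ?_⟩
  have hy : Spec.map (Spec.preimage y) = y := Spec.map_preimage y
  let φ : K →+* AlgebraicClosure L :=
    (algebraMap L (AlgebraicClosure L)).comp (Spec.preimage y).hom
  obtain ⟨q, hq⟩ := exists_isPullback (n := 2) φ (fun _ => 1) (fun _ => one_ne_zero) (cf a e)
  haveI : IsIntegral (Hyp (scaleForm (n := 2) φ (fun _ => 1) (cf a e))) := by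
    rw [scaleForm_cf]
    refine (curve_algClosed ?_).1
    simpa [Function.comp_def] using h.map φ
  have hφ : Spec.map (CommRingCat.ofHom φ) =
      Spec.map (CommRingCat.ofHom (algebraMap L (AlgebraicClosure L))) ≫ y := by
    rw [← hy, ← Spec.map_comp]
    rfl
  rw [hφ] at hq
  let r : Hyp (scaleForm (n := 2) φ (fun _ => 1) (cf a e)) ⟶ Y :=
    H.lift q (str _ ≫ Spec.map (CommRingCat.ofHom (algebraMap L (AlgebraicClosure L))))
      (by rw [hq.w]; simp only [Category.assoc])
  have hr : IsPullback r (str _) snd (Spec.map (CommRingCat.ofHom (algebraMap L (AlgebraicClosure L)))) :=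
    IsPullback.of_right (by rw [H.lift_fst]; exact hq) (H.lift_snd _ _ _) H
  haveI : Surjective (Spec.map (CommRingCat.ofHom (algebraMap L (AlgebraicClosure L)))) :=
    ⟨fun _ => ⟨IsLocalRing.closedPoint _, Subsingleton.elim _ _⟩⟩
  haveI : Surjective r := MorphismProperty.of_isPullback (P := @Surjective) hr.flip inferInstance
  exact r.surjective.irreducibleSpace r.continuous

theorem isCurveOfGenus {a : Fin 3 → K} {e : K} (h : Good a e) : ModFun.IsCurveOfGenus 1 (str (cf a e)) := by
  refine ⟨smooth_str h, isProper_str _, geometricallyIrreducible_str h, fun Ω _ _ t X i q H => ?_⟩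
  have ht : Spec.map (Spec.preimage t) = t := Spec.map_preimage t
  let φ : K →+* Ω := (Spec.preimage t).hom
  have hh := exists_isPullback (n := 2) φ (fun _ => 1) (fun _ => one_ne_zero) (cf a e)
  have hφ : Spec.map (CommRingCat.ofHom φ) = t := ht
  rw [hφ, scaleForm_cf] at hh
  obtain ⟨p, hp⟩ := hh
  have hG : Good (fun j : Fin 3 => φ (a j) * 1 ^ 3) (φ e * (1 * 1 * 1)) := by
    simpa [Function.comp_def] using h.map φ
  obtain ⟨-, hd, hg⟩ := curve_algClosed hG
  let E : X ≅ Hyp (cf (fun j : Fin 3 => φ (a j) * 1 ^ 3) (φ e * (1 * 1 * 1))) := H.isoIsPullback _ _ hp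
  refine ⟨(IsHomeomorph.topologicalKrullDim_eq _ E.hom.homeomorph.isHomeomorph).trans hd, ?_⟩
  letI : X.Over (Spec (CommRingCat.of Ω)) := ⟨q⟩
  letI : (Hyp (cf (fun j : Fin 3 => φ (a j) * 1 ^ 3) (φ e * (1 * 1 * 1)))).Over (Spec (CommRingCat.of Ω)) := ⟨str _⟩
  let G' := cf (fun j : Fin 3 => φ (a j) * 1 ^ 3) (φ e * (1 * 1 * 1))
  haveI : IsProper (Hyp G' ↘ Spec (CommRingCat.of Ω)) := isProper_str _
  have sq : IsPullback E.hom (X ↘ Spec (CommRingCat.of Ω)) (Hyp G' ↘ Spec (CommRingCat.of Ω))
      (Spec.map (CommRingCat.ofHom (algebraMap Ω Ω))) := by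
    have hid : Spec.map (CommRingCat.ofHom (algebraMap Ω Ω)) = 𝟙 _ := by
      rw [show CommRingCat.ofHom (algebraMap Ω Ω) = 𝟙 _ from rfl, Spec.map_id]
    haveI : IsIso (Spec.map (CommRingCat.ofHom (algebraMap Ω Ω))) := hid ▸ inferInstance
    refine IsPullback.of_horiz_isIso ⟨?_⟩
    rw [hid, Category.comp_id]
    exact H.isoIsPullback_hom_snd _ _ hp
  exact (Groth.Agent.S0223.result Ω (Hyp G') hd
    ((Groth.Agent.S7840.result Ω 3 (by norm_num) G' (cf_ne_zero hG) rfl).1) Ω X E.hom sq).2.trans hg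

end Groth.Agent.GenusOneTwist
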