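import Groth.Agent.GenusOneTwist.Points
import Groth.Agent.GeomPts.Realize
import Mathlib.FieldTheory.IsAlgClosed.AlgebraicClosure

/-!
# The moduli problem of genus one curves has no universal family
-/

set_option autoImplicit false
set_option linter.style.haveILetI false
set_option backward.isDefEq.respectTransparency false
set_option maxHeartbeats 1000000

universe u

open CategoryTheory CategoryTheory.Limits AlgebraicGeometry TopologicalSpace MvPolynomial ModFun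

noncomputable section

namespace Groth.Agent.GenusOneTwist

theorem nonempty_pullback_iso {T T' X X' : Scheme.{u}} {p : X ⟶ T} {p' : X' ⟶ T'} {f : T' ⟶ T} {q : X' ⟶ X}
    (H : IsPullback q p' p f) : Nonempty ((Over.pullback f).obj (Over.mk p) ≅ Over.mk p') :=
  ⟨Over.isoMk ((IsPullback.of_hasPullback p f).isoIsPullback _ _ H) (IsPullback.isoIsPullback_hom_snd _ _ _ _)⟩

theorem scaleForm_twist {K L : Type u} [Field K] [Field L] (φ : K →+* L) (t e : K) (s : L)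
    (hs : s ^ 3 = φ t) (hs0 : s ≠ 0) :
    scaleForm (n := 2) φ ![1, s⁻¹, s⁻¹ ^ 2] (cf ![1, t, t ^ 2] (e * t)) =
      scaleForm (n := 2) φ (fun _ => 1) (cf (fun _ => 1) e) := by
  have h0 : s * s⁻¹ = 1 := mul_inv_cancel₀ hs0
  have ha : (fun i : Fin 3 => φ ((![1, t, t ^ 2] : Fin 3 → K) i) * (![1, s⁻¹, s⁻¹ ^ 2] : Fin 3 → L) i ^ 3) =
      fun i : Fin 3 => φ ((fun _ => (1 : K)) i) * 1 ^ 3 := by
    funext i
    match i with
    | 0 => simp
    | 1 =>
      show φ t * s⁻¹ ^ 3 = φ 1 * 1 ^ 3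
      rw [← hs, map_one, ← mul_pow, h0, one_pow, one_mul]
    | 2 =>
      show φ (t ^ 2) * (s⁻¹ ^ 2) ^ 3 = φ 1 * 1 ^ 3
      rw [map_pow, ← hs, map_one, ← pow_mul, ← pow_mul, ← mul_pow, h0, one_pow, one_pow, one_mul]
  have he : φ (e * t) * (1 * s⁻¹ * s⁻¹ ^ 2) = φ e * (1 * 1 * 1) := by
    rw [map_mul, ← hs, one_mul, ← pow_succ', mul_assoc, ← mul_pow, h0, one_pow, one_mul, one_mul]
  rw [scaleForm_cf, scaleForm_cf, ha]
  exact congrArg (cf _) he

theorem exists_lam (k : Type u) [Field k] :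
    ∃ lam : k, ((3 : k) ≠ 0 ∧ lam = 0) ∨ ((3 : k) = 0 ∧ lam ≠ 0) := by
  by_cases h : (3 : k) = 0
  · exact ⟨1, Or.inr ⟨h, one_ne_zero⟩⟩
  · exact ⟨0, Or.inl ⟨h, rfl⟩⟩

theorem not_isFineModuli (k : Type u) [Field k] (M : Over (Spec (CommRingCat.of k))) :
    ¬ ModFun.IsFineModuli ⊤ (ModFun.Mg (Spec (CommRingCat.of k)) 1) M := by
  rintro ⟨ξ, -, hu⟩
  obtain ⟨lam, hlam⟩ := exists_lam k
  have h3 : (3 : RatFunc k) = RatFunc.C (3 : k) := (map_ofNat (RatFunc.C (K := k)) 3).symm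
  let aC : Fin 3 → RatFunc k := fun _ => 1
  let aD : Fin 3 → RatFunc k := ![1, RatFunc.X, RatFunc.X ^ 2]
  let eC : RatFunc k := RatFunc.C lam
  let eD : RatFunc k := RatFunc.C lam * RatFunc.X
  have hC : Good aC eC := ⟨fun _ => one_ne_zero, by
    rw [h3]
    rcases hlam with ⟨h, rfl⟩ | ⟨h, hl⟩
    · exact Or.inl ⟨(map_ne_zero _).2 h, map_zero _⟩
    · exact Or.inr ⟨by rw [h, map_zero], (map_ne_zero _).2 hl⟩⟩
  have hD : Good aD eD := ⟨fun i => by fin_cases i <;> simp [aD, RatFunc.X_ne_zero], by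
    rw [h3]
    rcases hlam with ⟨h, rfl⟩ | ⟨h, hl⟩
    · exact Or.inl ⟨(map_ne_zero _).2 h, by simp [eD]⟩
    · exact Or.inr ⟨by rw [h, map_zero], mul_ne_zero ((map_ne_zero _).2 hl) RatFunc.X_ne_zero⟩⟩
  let T : Over (Spec (CommRingCat.of k)) :=
    Over.mk (Spec.map (CommRingCat.ofHom (algebraMap k (RatFunc k))))
  let xC : Over T.left := Over.mk (str (cf aC eC))
  let xD : Over T.left := Over.mk (str (cf aD eD))
  obtain ⟨gC, ⟨iC⟩, -⟩ := hu T xC trivial ⟨trivial, isCurveOfGenus hC⟩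
  obtain ⟨gD, ⟨iD⟩, -⟩ := hu T xD trivial ⟨trivial, isCurveOfGenus hD⟩
  let φ : RatFunc k →+* AlgebraicClosure (RatFunc k) := algebraMap _ _
  obtain ⟨s, hs⟩ := IsAlgClosed.exists_pow_nat_eq (φ RatFunc.X) (n := 3) (by norm_num)
  have hs0 : s ≠ 0 := fun h => RatFunc.X_ne_zero (K := k) (by
    apply φ.injective
    rw [← hs, h, zero_pow three_ne_zero, map_zero])
  let c : Fin 3 → AlgebraicClosure (RatFunc k) := ![1, s⁻¹, s⁻¹ ^ 2]
  have hc : ∀ j, c j ≠ 0 := fun j => by fin_cases j <;> simp [c, hs0]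
  have hform : scaleForm (n := 2) φ c (cf aD eD) = scaleForm (n := 2) φ (fun _ => 1) (cf aC eC) :=
    scaleForm_twist φ RatFunc.X (RatFunc.C lam) s hs hs0
  let TL : Over (Spec (CommRingCat.of k)) := Over.mk (Spec.map (CommRingCat.ofHom φ) ≫ T.hom)
  let j : TL ⟶ T := Over.homMk (Spec.map (CommRingCat.ofHom φ)) rfl
  let F := scaleForm (n := 2) φ (fun _ => 1) (cf aC eC)
  have hF : Good (fun i : Fin 3 => φ (aC i) * 1 ^ 3) (φ eC * (1 * 1 * 1)) := by
    simpa [Function.comp_def] using hC.map φ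
  have hF' : IsCurveOfGenus 1 (str F) := by
    have e : F = cf (fun i : Fin 3 => φ (aC i) * 1 ^ 3) (φ eC * (1 * 1 * 1)) := scaleForm_cf φ _ aC eC
    rw [e]
    exact isCurveOfGenus hF
  have hx : (Mg (Spec (CommRingCat.of k)) 1).ok TL (Over.mk (str F)) := ⟨trivial, hF'⟩
  obtain ⟨qC, hqC⟩ := exists_isPullback (n := 2) φ (fun _ => 1) (fun _ => one_ne_zero) (cf aC eC)
  have hh := exists_isPullback (n := 2) φ c hc (cf aD eD)
  rw [hform] at hh
  obtain ⟨qD, hqD⟩ := hh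
  obtain ⟨pC⟩ := nonempty_pullback_iso hqC
  obtain ⟨pD⟩ := nonempty_pullback_iso hqD
  obtain ⟨g, -, huniq⟩ := hu TL (Over.mk (str F)) trivial hx
  have eC' : j ≫ gC = g := huniq _ ⟨(Over.pullbackComp j.left gC.left).app ξ ≪≫
    (Over.pullback j.left).mapIso iC ≪≫ pC⟩
  have eD' : j ≫ gD = g := huniq _ ⟨(Over.pullbackComp j.left gD.left).app ξ ≪≫
    (Over.pullback j.left).mapIso iD ≪≫ pD⟩
  have hg : gC = gD := Over.OverMorphism.ext (GeomPts.eq_of_comp_field φ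
    (congrArg (fun h => CommaMorphism.left h) (eC'.trans eD'.symm)))
  subst hg
  let i : xC ≅ xD := iC.symm ≪≫ iD
  obtain ⟨σ, hσ⟩ := exists_section_of_zero (cf aC eC) (0 : Fin 3) ![1, -1, 0] rfl
    (by simp [cf, cubic, Fin.sum_univ_three, aC]; norm_num)
  obtain ⟨l, x, hl, h0⟩ := exists_zero_of_section (cf aD eD) (σ ≫ i.hom.left)
    (by rw [Category.assoc]; exact (congrArg (σ ≫ ·) (Over.w i.hom)).trans hσ)
  have := congrFun (no_zero lam x h0) l
  rw [hl] at this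
  exact one_ne_zero this

end Groth.Agent.GenusOneTwist
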