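import Groth.Agent.GenusOneTwist.Curve
import Groth.Agent.ProjMor.Exists
import Mathlib.FieldTheory.RatFunc.Degree

/-!
# Rational points of hypersurfaces and of the twisted diagonal cubics
-/

set_option autoImplicit false
set_option linter.style.haveILetI false
set_option backward.isDefEq.respectTransparency false
set_option maxHeartbeats 1000000

universe u

open CategoryTheory CategoryTheory.Limits AlgebraicGeometry TopologicalSpace MvPolynomial

noncomputable section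

namespace Groth.Agent.GenusOneTwist

variable {K : Type u} [Field K] {n d : ℕ}

/-- A rational point gives a zero with a coordinate one. -/
theorem exists_zero_of_section (G : LefPen.Form n K d) (s : Spec (CommRingCat.of K) ⟶ Hyp G)
    (hs : s ≫ str G = 𝟙 _) : ∃ (l : Fin (n + 1)) (x : Fin (n + 1) → K), x l = 1 ∧ MvPolynomial.eval x G.1 = 0 := by
  obtain ⟨l, hl⟩ := exists_mem_hch G (s (IsLocalRing.closedPoint K))
  have hle : ⊤ ≤ s ⁻¹ᵁ hch G l := fun z _ => by
    obtain rfl : z = IsLocalRing.closedPoint K := Subsingleton.elim _ _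
    exact hl
  obtain ⟨e, he, -⟩ := exists_chart_equiv G l
  let ψ : (MvPolynomial {j : Fin (n + 1) // j ≠ l} K ⧸ Ideal.span {dehPoly l G.1}) →+* K :=
    ((Scheme.ΓSpecIso (CommRingCat.of K)).hom.hom.comp (s.appLE (hch G l) ⊤ hle).hom).comp e.toRingHom
  have hψ : ∀ c : K, ψ (algebraMap K _ c) = c := fun c => by
    show (Scheme.ΓSpecIso (CommRingCat.of K)).hom ((s.appLE (hch G l) ⊤ hle).hom (e (algebraMap K _ c))) = c
    rw [he]
    have h1 : (str G).appLE ⊤ (hch G l) le_top ≫ s.appLE (hch G l) ⊤ hle =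
        (𝟙 (Spec (CommRingCat.of K)) : _ ⟶ _).appLE ⊤ ⊤ le_top :=
      (Scheme.Hom.appLE_comp_appLE s (str G) ⊤ (hch G l) ⊤ le_top hle).trans
        (by congr 1)
    refine (congrArg (Scheme.ΓSpecIso (CommRingCat.of K)).hom
      (ConcreteCategory.congr_hom h1 ((Scheme.ΓSpecIso (CommRingCat.of K)).inv c))).trans ?_
    rw [show (𝟙 (Spec (CommRingCat.of K)) : _ ⟶ _).appLE ⊤ ⊤ le_top = 𝟙 _ from by simp [Scheme.Hom.appLE]]
    exact ConcreteCategory.congr_hom (Scheme.ΓSpecIso (CommRingCat.of K)).inv_hom_id c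
  let π : MvPolynomial (Fin (n + 1)) K →+* K :=
    ψ.comp ((Ideal.Quotient.mk _).comp (dehPoly (K := K) l).toRingHom)
  refine ⟨l, fun j => π (X j), ?_, ?_⟩
  · show ψ (Ideal.Quotient.mk _ (dehPoly l (X l))) = 1
    rw [dehPoly_self, map_one, map_one]
  · have hπ : π = MvPolynomial.eval fun j => π (X j) := MvPolynomial.ringHom_ext
      (fun c => by
        rw [eval_C]
        show ψ (Ideal.Quotient.mk _ (dehPoly l (C c))) = c
        rw [show dehPoly (K := K) l (C c) = C c by simp [dehPoly]]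
        exact hψ c)
      (fun j => by rw [eval_X])
    rw [← hπ]
    show ψ (Ideal.Quotient.mk _ (dehPoly l G.1)) = 0
    rw [Ideal.Quotient.eq_zero_iff_mem.2 (Ideal.mem_span_singleton_self _), map_zero]

/-- A zero gives a rational point. -/
theorem exists_section_of_zero (G : LefPen.Form n K d) (l : Fin (n + 1)) (x : Fin (n + 1) → K)
    (hl : x l = 1) (h0 : MvPolynomial.eval x G.1 = 0) :
    ∃ s : Spec (CommRingCat.of K) ⟶ Hyp G, s ≫ str G = 𝟙 _ := by
  obtain ⟨e, he, -⟩ := exists_chart_equiv G l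
  let χ : MvPolynomial {j : Fin (n + 1) // j ≠ l} K →+* K := MvPolynomial.eval fun j => x j.1
  have hχ : ∀ p, χ (dehPoly l p) = MvPolynomial.eval x p := by
    intro p
    have : χ.comp (dehPoly (K := K) l).toRingHom = MvPolynomial.eval x := MvPolynomial.ringHom_ext
      (fun c => by simp [χ, dehPoly]) (fun j => by
        by_cases hj : j = l
        · subst hj; simp [χ, dehPoly, hl]
        · simp [χ, dehPoly, hj])
    exact DFunLike.congr_fun this p
  have hspan : ∀ p ∈ Ideal.span {dehPoly l G.1}, χ p = 0 := fun p hp => by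
    obtain ⟨q, rfl⟩ := Ideal.mem_span_singleton'.1 hp
    rw [map_mul, hχ, h0, mul_zero]
  let ψ : Γ(Hyp G, hch G l) →+* Γ(Spec (CommRingCat.of K), ⊤) :=
    ((Scheme.ΓSpecIso (CommRingCat.of K)).inv.hom.comp (Ideal.Quotient.lift _ χ hspan)).comp e.symm.toRingHom
  obtain ⟨r, hr, hev⟩ := ProjMor.exists_hom_of_ringHom (hch G l) (isAffineOpen_hch G l) ψ
  refine ⟨r, ProjMor.ext_toSpec fun c => ?_⟩
  show (r ≫ str G).appTop ((Scheme.ΓSpecIso (CommRingCat.of K)).inv c) =
    (𝟙 (Spec (CommRingCat.of K)) : _ ⟶ _).appTop ((Scheme.ΓSpecIso (CommRingCat.of K)).inv c)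
  rw [Scheme.Hom.id_appTop, Scheme.Hom.appTop, Scheme.Hom.app_eq_appLE,
    Scheme.Hom.comp_appLE, Scheme.Hom.app_eq_appLE]
  have key : ((r.appLE (hch G l) ⊤ hr).hom) (((str G).appLE ⊤ (hch G l) le_top).hom
      ((Scheme.ΓSpecIso (CommRingCat.of K)).inv c)) = (Scheme.ΓSpecIso (CommRingCat.of K)).inv c := by
    rw [← he]
    refine (DFunLike.congr_fun hev _).trans ?_
    show (Scheme.ΓSpecIso (CommRingCat.of K)).inv (Ideal.Quotient.lift _ χ hspan (e.symm (e _))) = _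
    rw [e.symm_apply_apply]
    exact congrArg _ (eval_C c)
  refine Eq.trans ?_ key
  rw [← ConcreteCategory.comp_apply, ← ConcreteCategory.comp_apply, Scheme.Hom.appLE_comp_appLE,
    Scheme.Hom.appLE_comp_appLE]
  rfl

open RatFunc in
/-- In a vanishing sum a nonzero term is dominated in degree by another one. -/
theorem exists_deg_le {k : Type u} [Field k] {p q r s : RatFunc k} (hp : p ≠ 0) (h : p + q + r + s = 0) :
    (q ≠ 0 ∧ intDegree p ≤ intDegree q) ∨ (r ≠ 0 ∧ intDegree p ≤ intDegree r) ∨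
      (s ≠ 0 ∧ intDegree p ≤ intDegree s) := by
  have two : ∀ a b : RatFunc k, a + b ≠ 0 →
      (a ≠ 0 ∧ intDegree (a + b) ≤ intDegree a) ∨ (b ≠ 0 ∧ intDegree (a + b) ≤ intDegree b) := by
    intro a b hab
    rcases eq_or_ne b 0 with rfl | hb
    · rw [add_zero] at hab ⊢; exact Or.inl ⟨hab, le_rfl⟩
    rcases eq_or_ne a 0 with rfl | ha
    · rw [zero_add]; exact Or.inr ⟨hb, le_rfl⟩
    rcases le_max_iff.1 (intDegree_add_le hb hab) with h | h
    · exact Or.inl ⟨ha, h⟩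
    · exact Or.inr ⟨hb, h⟩
  have hp' : q + (r + s) = -p := by linear_combination h
  have hd : intDegree p = intDegree (q + (r + s)) := by rw [hp', intDegree_neg]
  rcases two q (r + s) (by rw [hp']; exact neg_ne_zero.2 hp) with ⟨h1, h2⟩ | ⟨h1, h2⟩
  · exact Or.inl ⟨h1, hd ▸ h2⟩
  rcases two r s h1 with ⟨h3, h4⟩ | ⟨h3, h4⟩
  · exact Or.inr (Or.inl ⟨h3, hd ▸ h2.trans h4⟩)
  · exact Or.inr (Or.inr ⟨h3, hd ▸ h2.trans h4⟩)

open RatFunc in
/-- The twisted cubic has no zero over `k(t)`. -/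
theorem no_zero {k : Type u} [Field k] (lam : k) (x : Fin 3 → RatFunc k)
    (h : MvPolynomial.eval x (cubic ![1, RatFunc.X, RatFunc.X ^ 2] (RatFunc.C lam * RatFunc.X)) = 0) :
    x = 0 := by
  have hX : (RatFunc.X : RatFunc k) ≠ 0 := RatFunc.X_ne_zero
  have hd1 : intDegree (RatFunc.X : RatFunc k) = 1 := intDegree_X
  let p := x 0 ^ 3
  let q := RatFunc.X * x 1 ^ 3
  let r := RatFunc.X ^ 2 * x 2 ^ 3
  let s := RatFunc.C lam * RatFunc.X * (x 0 * x 1 * x 2)
  have heq : p + q + r + s = 0 := by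
    simpa [p, q, r, s, cubic, Fin.sum_univ_three] using h
  have hp : p ≠ 0 → x 0 ≠ 0 ∧ intDegree p = 3 * intDegree (x 0) := fun h1 => by
    have h0 : x 0 ≠ 0 := fun h2 => h1 (by simp [p, h2])
    refine ⟨h0, ?_⟩
    simp only [p, pow_succ, pow_zero, one_mul, intDegree_mul, h0, ne_eq, not_false_eq_true, mul_ne_zero_iff, and_self]
    ring
  have hq : q ≠ 0 → x 1 ≠ 0 ∧ intDegree q = 3 * intDegree (x 1) + 1 := fun h1 => by
    have h0 : x 1 ≠ 0 := fun h2 => h1 (by simp [q, h2])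
    refine ⟨h0, ?_⟩
    simp only [q, pow_succ, pow_zero, one_mul, intDegree_mul, h0, hX, hd1, ne_eq, not_false_eq_true, mul_ne_zero_iff, and_self]
    ring
  have hr : r ≠ 0 → x 2 ≠ 0 ∧ intDegree r = 3 * intDegree (x 2) + 2 := fun h1 => by
    have h0 : x 2 ≠ 0 := fun h2 => h1 (by simp [r, h2])
    refine ⟨h0, ?_⟩
    simp only [r, pow_succ, pow_zero, one_mul, intDegree_mul, h0, hX, hd1, ne_eq, not_false_eq_true, mul_ne_zero_iff, and_self]
    ring
  have hs : s ≠ 0 → (p ≠ 0 ∧ q ≠ 0 ∧ r ≠ 0) ∧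
      intDegree s = intDegree (x 0) + intDegree (x 1) + intDegree (x 2) + 1 := fun h1 => by
    simp only [s, ne_eq, mul_eq_zero, not_or] at h1
    obtain ⟨⟨hl, -⟩, ⟨h0, h1⟩, h2⟩ := h1
    refine ⟨⟨pow_ne_zero 3 h0, mul_ne_zero hX (pow_ne_zero 3 h1), mul_ne_zero (pow_ne_zero 2 hX) (pow_ne_zero 3 h2)⟩, ?_⟩
    simp only [s, intDegree_mul, hl, h0, h1, h2, hX, hd1, intDegree_C, ne_eq, not_false_eq_true, mul_ne_zero_iff, and_self]
    ring
  have Hp : p = 0 ∨ ((q ≠ 0 ∧ intDegree p ≤ intDegree q) ∨ (r ≠ 0 ∧ intDegree p ≤ intDegree r) ∨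
      (s ≠ 0 ∧ intDegree p ≤ intDegree s)) := or_iff_not_imp_left.2 fun hne => exists_deg_le hne heq
  have Hq : q = 0 ∨ ((p ≠ 0 ∧ intDegree q ≤ intDegree p) ∨ (r ≠ 0 ∧ intDegree q ≤ intDegree r) ∨
      (s ≠ 0 ∧ intDegree q ≤ intDegree s)) :=
    or_iff_not_imp_left.2 fun hne => exists_deg_le hne (by linear_combination heq)
  have Hr : r = 0 ∨ ((p ≠ 0 ∧ intDegree r ≤ intDegree p) ∨ (q ≠ 0 ∧ intDegree r ≤ intDegree q) ∨
      (s ≠ 0 ∧ intDegree r ≤ intDegree s)) :=
    or_iff_not_imp_left.2 fun hne => exists_deg_le hne (by linear_combination heq)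
  have all : p = 0 ∧ q = 0 ∧ r = 0 := by
    by_cases p0 : p = 0 <;> by_cases q0 : q = 0 <;> by_cases r0 : r = 0 <;> by_cases s0 : s = 0 <;>
      simp [p0, q0, r0, s0] at Hp Hq Hr hp hq hr hs ⊢ <;> omega
  funext i
  fin_cases i
  · exact eq_zero_of_pow_eq_zero all.1
  · exact eq_zero_of_pow_eq_zero ((mul_eq_zero.1 all.2.1).resolve_left hX)
  · exact eq_zero_of_pow_eq_zero ((mul_eq_zero.1 all.2.2).resolve_left (pow_ne_zero 2 hX))

end Groth.Agent.GenusOneTwist
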