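import Mathlib.RingTheory.Smooth.Basic
import Mathlib.RingTheory.MvPolynomial.EulerIdentity
import Mathlib.Algebra.MvPolynomial.PDeriv
import Mathlib.RingTheory.FinitePresentation

/-!
# Jacobian criterion for an affine hypersurface, and the twisted diagonal cubic
-/

set_option autoImplicit false
set_option linter.style.haveILetI false
set_option backward.isDefEq.respectTransparency false

set_option maxHeartbeats 800000

universe u v

open MvPolynomial

noncomputable section

namespace Groth.Agent.GenusOneTwist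

variable {R : Type u} [CommRing R] {σ : Type v} [Fintype σ]

theorem formallySmooth_hypersurface (g a : MvPolynomial σ R) (b : σ → MvPolynomial σ R)
    (h1 : a * g + ∑ j, b j * pderiv j g = 1) :
    Algebra.FormallySmooth R (MvPolynomial σ R ⧸ Ideal.span {g}) := by
  let P := MvPolynomial σ R
  let f : P →ₐ[R] P ⧸ Ideal.span {g} := Ideal.Quotient.mkₐ R _
  have hker : RingHom.ker f.toRingHom = Ideal.span {g} := Ideal.mk_ker
  let K := RingHom.ker f.toRingHom ^ 2
  have hg2 : ∀ c : P, Ideal.Quotient.mk K (g ^ 2 * c) = 0 := fun c => by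
    rw [Ideal.Quotient.eq_zero_iff_mem]
    exact Ideal.mul_mem_right _ _ (Ideal.pow_mem_pow (hker.ge (Ideal.mem_span_singleton_self g)) 2)
  let L : P →ₗ[R] P :=
    { toFun := fun p => g * ∑ j, b j * pderiv j p
      map_add' := fun p q => by simp [mul_add, Finset.sum_add_distrib]
      map_smul' := fun c p => by simp [Finset.mul_sum, Finset.smul_sum] }
  have hL : ∀ p, L p = g * ∑ j, b j * pderiv j p := fun p => rfl
  let D : P →ₐ[R] P ⧸ K := AlgHom.ofLinearMap ((Ideal.Quotient.mkₐ R K).toLinearMap.comp (LinearMap.id - L))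
    (by simp [hL]) (fun p q => by
      have e : (p * q - L (p * q)) - (p - L p) * (q - L q) =
          g ^ 2 * (-((∑ j, b j * pderiv j p) * (∑ j, b j * pderiv j q))) := by
        have : (∑ j, b j * pderiv j (p * q)) = q * (∑ j, b j * pderiv j p) + p * (∑ j, b j * pderiv j q) := by
          rw [Finset.mul_sum, Finset.mul_sum, ← Finset.sum_add_distrib]
          refine Finset.sum_congr rfl fun j _ => ?_
          rw [pderiv_mul]; ring
        rw [hL, hL, hL, this]; ring
      have := hg2 (-((∑ j, b j * pderiv j p) * (∑ j, b j * pderiv j q)))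
      rw [← e, map_sub, sub_eq_zero, map_mul (Ideal.Quotient.mk K)] at this
      exact this)
  have hD : ∀ p, D p = Ideal.Quotient.mk K (p - g * ∑ j, b j * pderiv j p) := fun p => by
    simp [D, hL]
  have hDg : ∀ p ∈ Ideal.span {g}, D p = 0 := fun p hp => by
    obtain ⟨c, rfl⟩ := Ideal.mem_span_singleton'.1 hp
    rw [map_mul, hD g, show g - g * ∑ j, b j * pderiv j g = g ^ 2 * a by linear_combination g * h1.symm, hg2,
      mul_zero]
  refine Algebra.FormallySmooth.of_split f (Ideal.Quotient.liftₐ (Ideal.span {g}) D hDg) ?_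
  refine Ideal.Quotient.algHom_ext R (AlgHom.ext fun p => ?_)
  show f.kerSquareLift (D p) = f p
  rw [hD]
  show f (p - g * _) = f p
  rw [map_sub, sub_eq_self, map_mul, show f g = 0 from RingHom.mem_ker.1 (hker.ge (Ideal.mem_span_singleton_self g)),
    zero_mul]

theorem smooth_hypersurface (g : MvPolynomial σ R)
    (h : Ideal.span (insert g (Set.range fun j => pderiv j g)) = ⊤) :
    Algebra.Smooth R (MvPolynomial σ R ⧸ Ideal.span {g}) := by
  have h1 : (1 : MvPolynomial σ R) ∈ Ideal.span (insert g (Set.range fun j => pderiv j g)) := by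
    rw [h]; trivial
  obtain ⟨a, z, hz, he⟩ := Ideal.mem_span_insert.1 h1
  obtain ⟨b, rfl⟩ := (Ideal.mem_span_range_iff_exists_fun).1 hz
  haveI := formallySmooth_hypersurface g a b he.symm
  haveI : Algebra.FinitePresentation R (MvPolynomial σ R ⧸ Ideal.span {g}) :=
    Algebra.FinitePresentation.quotient (Submodule.fg_span_singleton g)
  exact ⟨inferInstance, inferInstance⟩

variable {K : Type u} [Field K]

/-- The twisted diagonal cubic. -/
def cubic (a : Fin 3 → K) (e : K) : MvPolynomial (Fin 3) K :=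
  ∑ i, C (a i) * X i ^ 3 + C e * (X 0 * X 1 * X 2)

theorem isHomogeneous_cubic (a : Fin 3 → K) (e : K) : (cubic a e).IsHomogeneous 3 := by
  refine IsHomogeneous.add (IsHomogeneous.sum _ _ _ fun i _ => ?_) ?_
  · exact (isHomogeneous_X_pow i 3).C_mul _
  · exact (((isHomogeneous_X K 0).mul (isHomogeneous_X K 1)).mul (isHomogeneous_X K 2)).C_mul _

/-- A good cubic: nonzero diagonal and either characteristic not 3 and no cross term, or the opposite. -/
def Good (a : Fin 3 → K) (e : K) : Prop :=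
  (∀ i, a i ≠ 0) ∧ (((3 : K) ≠ 0 ∧ e = 0) ∨ ((3 : K) = 0 ∧ e ≠ 0))

theorem Good.map {L : Type u} [Field L] {a : Fin 3 → K} {e : K} (h : Good a e) (φ : K →+* L) :
    Good (φ ∘ a) (φ e) := by
  refine ⟨fun i => (map_ne_zero φ).2 (h.1 i), ?_⟩
  rcases h.2 with ⟨h3, he⟩ | ⟨h3, he⟩
  · exact Or.inl ⟨by rw [← map_ofNat φ 3]; exact (map_ne_zero φ).2 h3, by rw [he, map_zero]⟩
  · exact Or.inr ⟨by rw [← map_ofNat φ 3, h3, map_zero], (map_ne_zero φ).2 he⟩

theorem cubic_map {L : Type u} [Field L] (φ : K →+* L) (a : Fin 3 → K) (e : K) :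
    MvPolynomial.map φ (cubic a e) = cubic (φ ∘ a) (φ e) := by
  simp [cubic]

theorem Good.not_singular {L : Type u} [Field L] {a : Fin 3 → L} {e : L} (h : Good a e) (x : Fin 3 → L)
    (h0 : MvPolynomial.eval x (cubic a e) = 0)
    (hd : ∀ j, MvPolynomial.eval x (pderiv j (cubic a e)) = 0) (i : Fin 3) : x i = 0 := by
  have d0 := hd 0; have d1 := hd 1; have d2 := hd 2
  simp [cubic, Fin.sum_univ_three, pderiv_X, Pi.single_apply] at d0 d1 d2 h0
  rcases h.2 with ⟨h3, he⟩ | ⟨h3, he⟩
  · subst he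
    simp [h.1, h3] at d0 d1 d2
    fin_cases i <;> assumption
  · have e0 : x 1 * x 2 = 0 := mul_eq_zero.2 (Or.symm (by simpa [h3, he] using d0))
    have e1 : x 0 * x 2 = 0 := mul_eq_zero.2 (Or.symm (by simpa [h3, he] using d1))
    have e2 : x 0 * x 1 = 0 := mul_eq_zero.2 (by simpa [h3, he] using d2)
    have e3 : x 0 * x 1 * x 2 = 0 := by rw [e2, zero_mul]
    rw [e3] at h0
    rcases mul_eq_zero.1 e2 with h4 | h4 <;> rcases mul_eq_zero.1 e0 with h5 | h5 <;>
      rcases mul_eq_zero.1 e1 with h6 | h6 <;> fin_cases i <;> simp_all [h.1]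

theorem chart_no_point {a : Fin 3 → K} {e : K} (h : Good a e) (l : Fin 3)
    (φ : MvPolynomial (Fin 3) K →ₐ[K] MvPolynomial {j : Fin 3 // j ≠ l} K)
    (hl : φ (X l) = 1) (hj : ∀ j : {j : Fin 3 // j ≠ l}, φ (X j.1) = X j)
    {L : Type u} [Field L] [Algebra K L] (π : MvPolynomial {j : Fin 3 // j ≠ l} K →ₐ[K] L)
    (hπ0 : π (φ (cubic a e)) = 0) (hπd : ∀ j, π (pderiv j (φ (cubic a e))) = 0) : False := by
  classical
  let x : Fin 3 → L := fun j => π (φ (X j))
  have hx : ∀ p, π (φ p) = MvPolynomial.eval x (MvPolynomial.map (algebraMap K L) p) := fun p => by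
    have : π.comp φ = MvPolynomial.aeval x := MvPolynomial.algHom_ext fun j => by simp [x]
    rw [eval_map, ← aeval_def]
    exact AlgHom.congr_fun this p
  have hchain : ∀ (j : {j : Fin 3 // j ≠ l}) p, pderiv j (φ p) = φ (pderiv j.1 p) := by
    intro j p
    induction p using MvPolynomial.induction_on with
    | C c => simp [← algebraMap_eq]
    | add p q hp hq => simp only [map_add, hp, hq]
    | mul_X p i hp =>
      rw [map_mul, pderiv_mul, hp, pderiv_mul, map_add, map_mul, map_mul]
      congr 2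
      by_cases hi : i = l
      · subst hi; rw [hl, pderiv_one, pderiv_X_of_ne (Ne.symm j.2), map_zero]
      · rw [show i = (⟨i, hi⟩ : {j : Fin 3 // j ≠ l}).1 from rfl, hj]
        by_cases hij : (⟨i, hi⟩ : {j : Fin 3 // j ≠ l}) = j
        · subst hij; rw [pderiv_X_self, pderiv_X_self, map_one]
        · rw [pderiv_X_of_ne hij, pderiv_X_of_ne (fun e => hij (Subtype.ext e)), map_zero]
  have hg := h.map (algebraMap K L)
  have h0 : MvPolynomial.eval x (cubic (algebraMap K L ∘ a) (algebraMap K L e)) = 0 := by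
    rw [← cubic_map, ← hx]; exact hπ0
  have hd' : ∀ j : Fin 3, j ≠ l → MvPolynomial.eval x (pderiv j (cubic (algebraMap K L ∘ a) (algebraMap K L e))) = 0 := by
    intro j hjl
    rw [← cubic_map, pderiv_map, ← hx, ← hchain ⟨j, hjl⟩]
    exact hπd _
  have hxl : x l = 1 := by simp [x, hl]
  have hEu := congrArg (MvPolynomial.eval x)
    (isHomogeneous_cubic (algebraMap K L ∘ a) (algebraMap K L e)).sum_X_mul_pderiv
  rw [map_sum, map_nsmul, h0, smul_zero] at hEu
  rw [Finset.sum_eq_single l (fun j _ hjl => by rw [map_mul, hd' j hjl, mul_zero])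
    (fun hh => absurd (Finset.mem_univ _) hh), map_mul, eval_X, hxl, one_mul] at hEu
  have := hg.not_singular x h0 (fun j => if hjl : j = l then hjl ▸ hEu else hd' j hjl) l
  rw [hxl] at this
  exact one_ne_zero this

/-- The chart of the cubic is smooth. -/
theorem smooth_chart {a : Fin 3 → K} {e : K} (h : Good a e) (l : Fin 3)
    (φ : MvPolynomial (Fin 3) K →ₐ[K] MvPolynomial {j : Fin 3 // j ≠ l} K)
    (hl : φ (X l) = 1) (hj : ∀ j : {j : Fin 3 // j ≠ l}, φ (X j.1) = X j) :
    Algebra.Smooth K (MvPolynomial {j : Fin 3 // j ≠ l} K ⧸ Ideal.span {φ (cubic a e)}) := by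
  classical
  refine smooth_hypersurface _ (by_contra fun hne => ?_)
  obtain ⟨q, hq, hle⟩ := Ideal.exists_le_maximal _ hne
  letI : Field (MvPolynomial {j : Fin 3 // j ≠ l} K ⧸ q) := Ideal.Quotient.field q
  exact chart_no_point h l φ hl hj (Ideal.Quotient.mkₐ K q)
    (Ideal.Quotient.eq_zero_iff_mem.2 (hle (Ideal.subset_span (Set.mem_insert _ _))))
    (fun j => Ideal.Quotient.eq_zero_iff_mem.2 (hle (Ideal.subset_span (Set.mem_insert_of_mem _ ⟨j, rfl⟩))))

end Groth.Agent.GenusOneTwist
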